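import Cfsg.Agent.Lib.SpFourRes.Transv.Main
import Cfsg.Agent.Lib.SpFourRes.Star.Main
import Cfsg.Agent.Lib.SpFourRes.CTwo.Centraliser
import Cfsg.Agent.Lib.SpFourRes.CTwo.Cross
import Cfsg.Agent.Lib.SpFourRes.CTwo.Nine
import Cfsg.Agent.Lib.SpFourRes.CTwo.Five
import Cfsg.Agent.Lib.SpFourRes.CTwo.Linear
import Cfsg.Agent.Lib.SpFourRes.CTwo.SuzukiField
import Cfsg.Agent.Lib.CITClass.Main
import Cfsg.Agent.Lib.Linear.AltSix
import Cfsg.Agent.Lib.Linear.GenTools
import Cfsg.Agent.Lib.PSL2.Soluble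
import Cfsg.Agent.Lib.PSL2.Facts
import Cfsg.Agent.Lib.SubThree.PSLFacts

/-!
Residual subgroups of `Sp₄(F)`, `F` of even order at least four.

* `false_of_transvection`, `allCTwo`, `isoSuzuki`
* `residual_socle` : the socle is the Suzuki group
-/

set_option autoImplicit false
set_option linter.style.haveILetI false

namespace Cfsg.Agent.SpFourRes

open Matrix Transv

variable {F : Type*} [Field F] [CharP F 2] [Fintype F] {P : Subgroup (GL (Fin 2 ⊕ Fin 2) F)}

/-- A residual group has no transvection. -/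
theorem false_of_transvection (hq : 4 ≤ Fintype.card F) (C : Core P)
    {z : GL (Fin 2 ⊕ Fin 2) F} (hz : z ∈ P) (hz1 : z ≠ 1) {u : Vec F} (hu : IsTvec z u) : False := by
  haveI := C.simple
  set T := Subgroup.closure {g | g ∈ P ∧ ∃ u, IsTvec g u} with hT
  have hTP : T ≤ P := (Subgroup.closure_le _).2 fun g hg => hg.1
  have hN : (T.subgroupOf P).Normal := by
    refine ⟨fun n hn g => ?_⟩
    have h1 : T ≤ T.comap (MulAut.conj (g : GL (Fin 2 ⊕ Fin 2) F)).toMonoidHom := by
      rw [hT, Subgroup.closure_le]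
      rintro t ⟨ht, v, hv⟩
      refine Subgroup.subset_closure ⟨mul_mem (mul_mem g.2 ht) (inv_mem g.2), g.1.1 *ᵥ v, ?_⟩
      rw [eq_tg hv, MulEquiv.coe_toMonoidHom, MulAut.conj_apply, tg_conj (C.le_sp g.2)]
      exact isTvec_tg _
    exact h1 hn
  have hTtop : P = T := by
    rcases hN.eq_bot_or_eq_top with h | h
    · exfalso
      have : (⟨z, hz⟩ : P) ∈ T.subgroupOf P := Subgroup.subset_closure ⟨hz, u, hu⟩
      rw [h, Subgroup.mem_bot] at this
      exact hz1 (congrArg Subtype.val this)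
    · exact le_antisymm (Subgroup.subgroupOf_eq_top.1 h) hTP
  rcases trichotomy hq P C.le_sp C.abs_irr.1 hTtop with h | ⟨Q, hQ, hQU⟩ | ⟨K, hK, B, -, hBK⟩
  · exact C.ne_top h
  · refine C.no_quad ⟨Q, hQ, ?_⟩
    intro g hg
    have hmem : g ∈ Subgroup.closure {g | g ∈ P ∧ ∃ u, IsTvec g u} := by rw [← hT, ← hTtop]; exact hg
    induction hmem using Subgroup.closure_induction with
    | mem t ht =>
      intro x
      obtain ⟨htP, v, hv⟩ := ht
      by_cases hv0 : v = 0
      · rw [hv x, hv0, smul_zero, add_zero]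
      · rw [hv x, hQ.tg_eq (hQU v ⟨hv0, t, htP, hv⟩)]
    | one => intro x; rw [Units.val_one, Matrix.one_mulVec]
    | mul a b ha hb iha ihb =>
      intro x
      rw [Units.val_mul, ← Matrix.mulVec_mulVec, iha (hTP ha), ihb (hTP hb)]
    | inv a ha iha =>
      intro x
      rw [← iha (hTP ha), Matrix.mulVec_mulVec, Units.mul_inv, Matrix.one_mulVec]
  · exact C.no_subfield K hK ⟨B, by
      rintro _ ⟨g, hg, rfl⟩ i j
      simpa [Units.val_mul] using hBK g hg i j⟩

/-- All involutions of a residual group have type c2. -/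
theorem allCTwo (hq : 4 ≤ Fintype.card F) (C : Core P) : AllCTwo P := by
  intro z hz hz2 hz1
  refine ⟨?_, fun ⟨u, hu⟩ => false_of_transvection hq C hz hz1 hu⟩
  by_contra h
  push Not at h
  exact Short.false_of_trichotomy hq (fun G => trichotomy hq G) C ⟨z, hz, hz2, hz1, h⟩

/-- Elements of order five have trace in the prime field. -/
theorem five_input {K : Type} [Field K] [Fintype K] [CharP K 2]
    (ρ : Matrix.SpecialLinearGroup (Fin 2) K →* GL (Fin 2 ⊕ Fin 2) F)
    (hsp : ∀ x, ρ x ∈ Cfsg.spGL 2 F)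
    (hct : ∀ x, x * x = 1 → x ≠ 1 →
      (∃ v : Vec F, sf ((ρ x).1 *ᵥ v) v ≠ 0) ∧ ¬ ∃ u : Vec F, IsTvec (ρ x) u)
    (h3 : ∃ x, x ^ 3 = 1 ∧ ∀ v : Vec F, (ρ x).1 *ᵥ v = v → v = 0)
    {x : Matrix.SpecialLinearGroup (Fin 2) K} (hx : x ^ 5 = 1) : (ρ x).1.trace ^ 2 = (ρ x).1.trace := by
  have R : CTwo.Rep ρ := ⟨hsp, fun a ha => hct _ (SL2Module.up_sq a) fun h => ha (by
    have := congrArg (fun g : Matrix.SpecialLinearGroup (Fin 2) K => g.1 0 1) h
    simpa [SL2Module.up_val] using this)⟩
  obtain ⟨g₃, hg₃, hfix⟩ := h3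
  rcases R.five_trace hg₃ (fun v hv => hfix v (by rwa [CTwo.act_apply] at hv)) hx with h | h <;> rw [h] <;> simp

/-- A residual group is a Suzuki group. -/
theorem isoSuzuki (hq : 4 ≤ Fintype.card F) (C : Core P) : Cfsg.Lie.IsoSuzuki ↥P := by
  classical
  haveI := C.simple
  have h := allCTwo hq C
  rcases CITClass.classify C.nonabelian (CTwo.isCIT C h) with ⟨K, iK, iKf, hc, ⟨e⟩⟩ | ⟨K, iK, iKf, hc, ⟨e⟩⟩ | h'
  · exfalso
    have hnc : ¬ Group.IsSolvable ↥P := fun hs => by
      obtain ⟨a, b, hab⟩ := C.nonabelian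
      exact hab (IsSimpleGroup.comm_iff_isSolvable.2 hs a b)
    rcases hc with h9 | ⟨n, hn⟩ | ⟨hp, k, hk⟩
    · obtain ⟨e'⟩ := Linear.nonempty_pslTwo_nine (F := K) h9
      exact (CTwo.not_psl_nine_of hq C h (fun {_} _ _ _ _ ρ _ hsp hct h3 x hx _ =>
        five_input ρ hsp hct h3 hx)).false (e'.symm.trans e.symm)
    · have hc2 : Nat.card K = 2 ^ n := by rw [Nat.card_eq_fintype_card]; exact hn
      rcases Nat.lt_or_ge n 2 with h2 | h2
      · interval_cases n
        · rw [pow_zero] at hn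
          exact absurd hn (Nat.ne_of_gt (Fintype.one_lt_card))
        · refine hnc (PSL2.isSolvable_of_card_two_three ?_)
          have h6 : Nat.card ↥P = 6 := by
            rw [Nat.card_congr e.toEquiv]
            have := PSL2.card_psl_mul (F := K)
            rw [hc2, show Nat.gcd 2 (2 ^ 1 - 1) = 1 from rfl, one_mul] at this
            exact this.trans rfl
          rw [h6]; decide
      haveI : CharP K 2 := charP_of_card_eq_prime_pow (f := n) hn
      have hbij : Function.Bijective (QuotientGroup.mk' (Subgroup.center (Matrix.SpecialLinearGroup (Fin 2) K))) :=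
        ⟨Mitchell.TransvTwo.mk_injective_two CharTwo.two_eq_zero, QuotientGroup.mk'_surjective _⟩
      exact (CTwo.not_psl_even C h (K := K) (hn ▸ (show 2 ^ 2 ≤ 2 ^ n from Nat.pow_le_pow_right two_pos h2))).false
        ((MulEquiv.ofBijective _ hbij).trans e.symm)
    · haveI : Fact (Fintype.card K).Prime := ⟨hp⟩
      haveI : CharP K (Fintype.card K) := charP_of_card_eq_prime rfl
      let ψ : ZMod (Fintype.card K) ≃+* K := ZMod.ringEquiv K rfl
      rcases Nat.lt_or_ge (Fintype.card K) 7 with h7 | h7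
      · have hc' : Fintype.card K = 2 ∨ Fintype.card K = 3 ∨ Fintype.card K = 5 := by
          have key : ∀ p : ℕ, p.Prime → p < 7 → p = 2 ∨ p = 3 ∨ p = 5 := by
            intro p hp h
            have := hp.two_le
            interval_cases p <;> simp_all (config := { decide := true })
          exact key _ hp h7
        rcases hc' with h2 | h2 | h2
        · refine hnc (PSL2.isSolvable_of_card_two_three ?_)
          have h6 : Nat.card ↥P = 6 := by
            rw [Nat.card_congr e.toEquiv]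
            have := PSL2.card_psl_mul (F := K)
            rw [Nat.card_eq_fintype_card (α := K), h2, show Nat.gcd 2 (2 - 1) = 1 from rfl] at this
            change _ * Nat.card (Matrix.ProjectiveSpecialLinearGroup (Fin 2) K) = _ at this
            omega
          rw [h6]; decide
        · refine hnc (PSL2.isSolvable_of_card_two_three ?_)
          have h6 : Nat.card ↥P = 12 := by
            rw [Nat.card_congr e.toEquiv]
            have := PSL2.card_psl_mul (F := K)
            rw [Nat.card_eq_fintype_card (α := K), h2, show Nat.gcd 2 (3 - 1) = 2 from rfl] at this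
            change _ * Nat.card (Matrix.ProjectiveSpecialLinearGroup (Fin 2) K) = _ at this
            omega
          rw [h6]; decide
        · haveI : Fact (Nat.Prime 5) := ⟨Nat.prime_five⟩
          obtain ⟨e5⟩ := SubThree.psl_five
          haveI : Fact (Nat.Prime 2) := ⟨Nat.prime_two⟩
          have h4 : Nat.card (GaloisField 2 2) = 4 := GaloisField.card 2 2 two_ne_zero
          haveI : Fintype (GaloisField 2 2) := Fintype.ofFinite _
          obtain ⟨e4⟩ := PSL2.mulEquiv_alternatingFive_of_four h4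
          have hbij : Function.Bijective
              (QuotientGroup.mk' (Subgroup.center (Matrix.SpecialLinearGroup (Fin 2) (GaloisField 2 2)))) :=
            ⟨Mitchell.TransvTwo.mk_injective_two CharTwo.two_eq_zero, QuotientGroup.mk'_surjective _⟩
          let e0 : Matrix.ProjectiveSpecialLinearGroup (Fin 2) (ZMod 5) ≃* ↥P :=
            (Linear.pslMapEquiv (FiniteField.ringEquivOfCardEq (K := ZMod 5) (K' := K)
              (by rw [ZMod.card]; exact h2.symm))).trans e.symm
          exact (CTwo.not_psl_even C h (K := GaloisField 2 2) (by rw [← Nat.card_eq_fintype_card, h4])).false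
            ((MulEquiv.ofBijective _ hbij).trans (e4.trans (e5.symm.trans e0)))
      · exact (CTwo.not_psl_prime C (p := Fintype.card K) h7).false
          ((Linear.pslMapEquiv ψ).trans e.symm)
  · exact ((CTwo.not_psl_three_four C hc).false e.symm).elim
  · exact h'

/-- **The socle of a maximal residual subgroup of `Sp₄(F)`.** -/
theorem residual_socle (hq : 4 ≤ Fintype.card F) (H : Subgroup (GL (Fin 2 ⊕ Fin 2) F))
    (hH : Cfsg.Geo.IsMaximalIn (Cfsg.spGL 2 F) H) (hS : Cfsg.Geo.InSymplecticResidualClass H) :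
    ∃ (P : Subgroup (GL (Fin 2 ⊕ Fin 2) F)) (m : ℕ), Cfsg.Geo.IsResidualCore H P ∧ 1 ≤ m ∧
      Fintype.card F = 2 ^ (2 * m + 1) ∧
      Nonempty ((↥P ⧸ (Cfsg.Geo.scalars (Fin 2 ⊕ Fin 2) F).subgroupOf P) ≃* Cfsg.Lie.Sz F (2 ^ (m + 1))) := by
  obtain ⟨P, R, hnq, -⟩ := hS
  have hPsp : P ≤ Cfsg.spGL 2 F := R.le.trans hH.1.le
  have hbot : (Cfsg.Geo.scalars (Fin 2 ⊕ Fin 2) F).subgroupOf P = ⊥ := by
    rw [eq_bot_iff]
    intro g hg
    obtain ⟨c, hc⟩ := (Cfsg.Geo.mem_scalars_iff _).1 (Subgroup.mem_subgroupOf.1 hg)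
    have hsq : (c : F) ^ 2 = 1 := by
      have h1 : (Pi.single (Sum.inl 0) 1 : Vec F) ≠ 0 := by simp
      obtain ⟨y, hy⟩ := exists_sf_ne h1
      have h2 := sp_sf (hPsp g.2) y (Pi.single (Sum.inl 0) 1)
      rw [hc, Matrix.smul_mulVec, Matrix.smul_mulVec, Matrix.one_mulVec,
        Matrix.one_mulVec, sf_smul_left, sf_smul_right, ← mul_assoc, ← pow_two] at h2
      exact mul_right_cancel₀ hy (h2.trans (one_mul _).symm)
    have hc1 : (c : F) = 1 := Transv.sq_inj (by rw [hsq, one_pow])
    rw [Subgroup.mem_bot]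
    exact Subtype.ext (Units.ext (by rw [hc, hc1, one_smul]; rfl))
  let ε : (↥P ⧸ (Cfsg.Geo.scalars (Fin 2 ⊕ Fin 2) F).subgroupOf P) ≃* ↥P :=
    (QuotientGroup.quotientMulEquivOfEq hbot).trans QuotientGroup.quotientBot
  haveI := R.simple
  have C : Core P := {
    le_sp := hPsp
    ne_top := fun h => hH.1.not_ge (h ▸ R.le)
    abs_irr := R.absIrred
    simple := by
      haveI : Nontrivial ↥P := ε.symm.toEquiv.nontrivial
      exact IsSimpleGroup.isSimpleGroup_of_surjective ε.toMonoidHom ε.surjective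
    nonabelian := by
      by_contra h
      push Not at h
      exact R.nonabelian ⟨⟨fun x y => ε.injective (by rw [map_mul, map_mul, h])⟩⟩
    no_subfield := R.no_subfield
    no_quad := by
      rintro ⟨Q, hQ, hfix⟩
      have hp : QuadraticMap.polar Q = Cfsg.sympForm 2 F := by
        funext x y
        rw [QuadraticMap.polar, hQ.add]
        ring
      exact hnq ⟨Q, ⟨hQ.smul, by rw [hp]; exact isSymp.bilinear, by rw [hp]; exact isSymp.nondegenerate⟩, by
        rintro _ ⟨g, hg, rfl⟩ v
        exact hfix g hg v⟩ }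
  obtain ⟨m, hm, hF, ⟨e⟩⟩ := CTwo.suzuki_field C (isoSuzuki hq C)
  exact ⟨P, m, R, hm, hF, ⟨ε.trans e⟩⟩

end Cfsg.Agent.SpFourRes
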