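import Cfsg.Agent.Lib.Transvect.Symp
import Cfsg.Agent.Lib.PrimeDim.Algebra

/-!
Residual subgroups of `Sp₄(F)`, `F` of characteristic two: vocabulary.

* `IsTvec g u` : `g` is the transvection `x ↦ x + f(x, u) u`; `tvecs G`
* `IsQuad Q` : `Q` is a quadratic map with polar map `f`
* `Core P` : the residual hypotheses on the simple group `P`
* `AllCTwo P` : `f(z x, x)` is not identically zero and `z` is no transvection, for every involution `z`
-/

set_option autoImplicit false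

namespace Cfsg.Agent.SpFourRes

open Matrix

variable {F : Type*} [Field F]

/-- Vectors. -/
abbrev Vec (F : Type*) := Fin 2 ⊕ Fin 2 → F

/-- The alternating form. -/
abbrev sf (u v : Vec F) : F := Cfsg.sympForm 2 F u v

theorem isSymp : Cfsg.Geo.IsSymplecticForm (Cfsg.sympForm 2 F) := Transvect.sympForm_isSymplectic 2

/-- `g` is the transvection with vector `u`. -/
def IsTvec (g : GL (Fin 2 ⊕ Fin 2) F) (u : Vec F) : Prop :=
  ∀ x : Vec F, g.1 *ᵥ x = x + sf x u • u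

/-- The vectors of the transvections in `G`. -/
def tvecs (G : Subgroup (GL (Fin 2 ⊕ Fin 2) F)) : Set (Vec F) :=
  {u | u ≠ 0 ∧ ∃ g ∈ G, IsTvec g u}

/-- A quadratic map with polar map the symplectic form. -/
structure IsQuad (Q : Vec F → F) : Prop where
  smul : ∀ (c : F) (x : Vec F), Q (c • x) = c ^ 2 * Q x
  add : ∀ x y : Vec F, Q (x + y) = Q x + Q y + sf x y

/-- The hypotheses on the simple group of a residual subgroup. -/
structure Core (P : Subgroup (GL (Fin 2 ⊕ Fin 2) F)) : Prop where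
  le_sp : P ≤ Cfsg.spGL 2 F
  ne_top : P ≠ Cfsg.spGL 2 F
  abs_irr : Cfsg.Geo.ActsAbsolutelyIrreducibly (Cfsg.Geo.matrixSet P)
  simple : IsSimpleGroup ↥P
  nonabelian : ∃ a b : ↥P, a * b ≠ b * a
  no_subfield : ∀ F₀ : Subfield F, F₀ ≠ ⊤ → ¬ Cfsg.Geo.RealisableOver F₀ (Cfsg.Geo.matrixSet P)
  no_quad : ¬ ∃ Q : Vec F → F, IsQuad Q ∧ ∀ g ∈ P, ∀ x, Q (g.1 *ᵥ x) = Q x

/-- No involution is a transvection or an element `z` with `f(z x, x) = 0` for all `x`. -/
def AllCTwo (P : Subgroup (GL (Fin 2 ⊕ Fin 2) F)) : Prop :=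
  ∀ z ∈ P, z * z = 1 → z ≠ 1 → (∃ x : Vec F, sf (z.1 *ᵥ x) x ≠ 0) ∧ ¬ ∃ u : Vec F, IsTvec z u

end Cfsg.Agent.SpFourRes
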